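import Groth.Agent.EGA2Curve.Normalization
import Groth.Agent.DivPts.Basic

/-! Normalization of an integral scheme in an arbitrary field extension of its function field. -/

set_option autoImplicit false
set_option linter.style.haveILetI false

universe u

open CategoryTheory CategoryTheory.Limits AlgebraicGeometry Opposite

namespace Groth.Agent.EGA2Curve

variable {Y : Scheme.{u}} [IsIntegral Y] {K : Type u} [Field K]
  {φ : Y.functionField →+* K} {g : Spec (CommRingCat.of K) ⟶ Y}
  (hg : g = Spec.map (CommRingCat.ofHom φ) ≫ Y.fromSpecStalk (genericPoint Y))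
  [QuasiCompact g] [QuasiSeparated g]

/-- The package of a chart: sections of the normalization inside `K`. -/
structure Chart (g : Spec (CommRingCat.of K) ⟶ Y) [QuasiCompact g] [QuasiSeparated g]
    (φ : Y.functionField →+* K) (U : Y.Opens) (hη : genericPoint Y ∈ U) where
  θ : Γ(g.normalization, g.fromNormalization ⁻¹ᵁ U) →+* K
  inj : Function.Injective θ
  comp : ∀ a, θ ((g.fromNormalization.app U).hom a) = φ ((Y.presheaf.germ U _ hη).hom a)
  range : ∀ y : K, y ∈ θ.range ↔
    ∃ q : Polynomial Γ(Y, U), q.Monic ∧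
      Polynomial.eval₂ (φ.comp (Y.presheaf.germ U _ hη).hom) y q = 0
  mem : g.toNormalization (IsLocalRing.closedPoint K) ∈ g.fromNormalization ⁻¹ᵁ U
  eq : ∀ b, θ b = (Scheme.stalkClosedPointTo g.toNormalization).hom
    ((g.normalization.presheaf.germ _ _ mem).hom b)

include hg in
lemma nonempty_chart {U : Y.Opens} (hU : IsAffineOpen U) (hη : genericPoint Y ∈ U) :
    Nonempty (Chart g φ U hη) := by
  have hgU : g (IsLocalRing.closedPoint K) ∈ U := mem_preimage hg U _ hη
  let e : Γ(Spec (CommRingCat.of K), g ⁻¹ᵁ U) ≅ CommRingCat.of K :=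
    (Spec (CommRingCat.of K)).presheaf.mapIso
      (eqToIso (Scheme.preimage_eq_top_of_closedPoint_mem g hgU).symm).op ≪≫
      Scheme.ΓSpecIso (CommRingCat.of K)
  have he : ∀ a, e.hom ((g.app U).hom a) = φ ((Y.presheaf.germ U _ hη).hom a) := by
    intro a
    have h1 := Scheme.germ_stalkClosedPointTo g U hgU
    haveI : IsLocalHom (CommRingCat.ofHom φ).hom :=
      ⟨fun x hx => by
        have hne : x ≠ 0 := fun h => by
          apply hx.ne_zero
          rw [h]
          exact map_zero φ
        exact isUnit_iff_ne_zero.2 hne⟩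
    subst hg
    have h2 := Scheme.germ_stalkClosedPointTo_Spec_fromSpecStalk (CommRingCat.ofHom φ) U hgU
    exact congr($(h1.symm.trans h2).hom a)
  letI algL : Algebra Γ(Y, U) Γ(Spec (CommRingCat.of K), g ⁻¹ᵁ U) := (g.app U).hom.toAlgebra
  let ι := g.normalizationObjIso hU
  let val : integralClosure Γ(Y, U) Γ(Spec (CommRingCat.of K), g ⁻¹ᵁ U) →+*
      Γ(Spec (CommRingCat.of K), g ⁻¹ᵁ U) := (Subalgebra.val _).toRingHom
  let θ : Γ(g.normalization, g.fromNormalization ⁻¹ᵁ U) →+* K :=
    (e.hom.hom.comp val).comp ι.hom.hom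
  have hθ : ∀ b, θ b = e.hom.hom (val (ι.hom.hom b)) := fun b => rfl
  have hmem : g.toNormalization (IsLocalRing.closedPoint K) ∈ g.fromNormalization ⁻¹ᵁ U := by
    show g.fromNormalization (g.toNormalization _) ∈ U
    rw [← Scheme.Hom.comp_apply, g.toNormalization_fromNormalization]
    exact hgU
  refine ⟨⟨θ, ?_, fun a => ?_, fun y => ?_, hmem, fun b => ?_⟩⟩
  · exact (e.commRingCatIsoToRingEquiv.injective.comp Subtype.val_injective).comp
      ι.commRingCatIsoToRingEquiv.injective
  · rw [hθ, g.fromNormalization_app hU]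
    have : ι.hom.hom ((g.normalizationObjIso hU).inv.hom
        (algebraMap Γ(Y, U) (integralClosure Γ(Y, U) Γ(Spec (CommRingCat.of K), g ⁻¹ᵁ U)) a)) =
        algebraMap Γ(Y, U) (integralClosure Γ(Y, U) Γ(Spec (CommRingCat.of K), g ⁻¹ᵁ U)) a :=
      congr($((g.normalizationObjIso hU).inv_hom_id).hom _)
    exact (congrArg (fun z => e.hom.hom (val z)) this).trans (he a)
  · have hcomp : (e.hom.hom).comp (algebraMap Γ(Y, U) Γ(Spec (CommRingCat.of K), g ⁻¹ᵁ U)) =
        φ.comp (Y.presheaf.germ U _ hη).hom := RingHom.ext he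
    constructor
    · rintro ⟨b, rfl⟩
      obtain ⟨q, hq, hqb⟩ := (ι.hom.hom b).2
      refine ⟨q, hq, ?_⟩
      rw [← hcomp, hθ, ← Polynomial.hom_eval₂]
      exact (congrArg e.hom.hom hqb).trans (map_zero _)
    · rintro ⟨q, hq, hqy⟩
      have hint : _root_.IsIntegral Γ(Y, U) (e.inv.hom y) := by
        refine ⟨q, hq, e.commRingCatIsoToRingEquiv.injective ?_⟩
        show e.hom.hom _ = e.hom.hom 0
        rw [Polynomial.hom_eval₂, hcomp, map_zero]
        have : e.hom.hom (e.inv.hom y) = y := congr($(e.inv_hom_id).hom y)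
        rw [this]
        exact hqy
      refine ⟨ι.inv.hom ⟨e.inv.hom y, hint⟩, ?_⟩
      rw [hθ]
      have h1 : ι.hom.hom (ι.inv.hom ⟨e.inv.hom y, hint⟩) = ⟨e.inv.hom y, hint⟩ :=
        congr($(ι.inv_hom_id).hom _)
      rw [h1]
      exact congr($(e.inv_hom_id).hom y)
  · have h := congr($(Scheme.germ_stalkClosedPointTo g.toNormalization
      (g.fromNormalization ⁻¹ᵁ U) hmem).hom b)
    refine Eq.trans ?_ h.symm
    have key : ∀ {A B : (Spec (CommRingCat.of K)).Opens} (i : op A ⟶ op B) (j : op B ⟶ op ⊤)
        (l : op A ⟶ op ⊤) (x : Γ(Spec (CommRingCat.of K), A)),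
        ((Spec (CommRingCat.of K)).presheaf.map j).hom
          (((Spec (CommRingCat.of K)).presheaf.map i).hom x) =
        ((Spec (CommRingCat.of K)).presheaf.map l).hom x := fun i j l x => by
      rw [← CommRingCat.comp_apply, ← Functor.map_comp, Subsingleton.elim (i ≫ j) l]
    rw [g.toNormalization_app_preimage ⟨U, hU⟩]
    exact (congrArg (Scheme.ΓSpecIso (CommRingCat.of K)).hom.hom (key _ _ _ _)).symm

include hg in
lemma toNormalization_eq_genericPoint [IsIntegral g.normalization] :
    g.toNormalization (IsLocalRing.closedPoint K) = genericPoint g.normalization := by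
  refine ((genericPoint_spec g.normalization).eq ?_).symm
  have h := g.toNormalization.denseRange.closure_range
  have hr : Set.range g.toNormalization = {g.toNormalization (IsLocalRing.closedPoint K)} := by
    haveI : Subsingleton ↥(Spec (CommRingCat.of K)) :=
      inferInstanceAs (Subsingleton (PrimeSpectrum K))
    ext z
    constructor
    · rintro ⟨w, rfl⟩
      rw [Subsingleton.elim w (IsLocalRing.closedPoint K)]
      rfl
    · rintro rfl
      exact ⟨_, rfl⟩
  rw [hr] at h
  exact h

include hg in
lemma isNormalScheme_normalization' : Pi1.IsNormalScheme g.normalization := by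
  intro x'
  refine ⟨inferInstance, ?_⟩
  obtain ⟨_, ⟨U, hU, rfl⟩, hxU, -⟩ :=
    Y.isBasis_affineOpens.exists_subset_of_mem_open (Set.mem_univ (g.fromNormalization x')) isOpen_univ
  have hη := mem_of_nonempty U ⟨_, hxU⟩
  obtain ⟨c⟩ := nonempty_chart hg hU hη
  haveI : IsIntegrallyClosed Γ(g.normalization, g.fromNormalization ⁻¹ᵁ U) := by
    letI : Algebra Γ(g.normalization, g.fromNormalization ⁻¹ᵁ U) K := c.θ.toAlgebra
    haveI : FaithfulSMul Γ(g.normalization, g.fromNormalization ⁻¹ᵁ U) K :=
      (faithfulSMul_iff_algebraMap_injective _ _).2 c.inj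
    letI : Algebra Γ(Y, U) K := (φ.comp (Y.presheaf.germ U _ hη).hom).toAlgebra
    letI : Algebra Γ(Y, U) Γ(g.normalization, g.fromNormalization ⁻¹ᵁ U) :=
      (g.fromNormalization.app U).hom.toAlgebra
    haveI : IsScalarTower Γ(Y, U) Γ(g.normalization, g.fromNormalization ⁻¹ᵁ U) K :=
      IsScalarTower.of_algebraMap_eq fun a => (c.comp a).symm
    haveI : IsIntegralClosure Γ(g.normalization, g.fromNormalization ⁻¹ᵁ U) Γ(Y, U) K :=
      ⟨c.inj, fun {y} => (c.range y).symm⟩
    haveI := IsIntegrallyClosedIn.of_isIntegralClosure Γ(Y, U)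
      (A := Γ(g.normalization, g.fromNormalization ⁻¹ᵁ U)) (B := K)
    exact IsIntegrallyClosed.of_isIntegrallyClosedIn Γ(g.normalization, g.fromNormalization ⁻¹ᵁ U) K
  have hV := hU.preimage g.fromNormalization
  haveI : Nonempty (g.fromNormalization ⁻¹ᵁ U : g.normalization.Opens) := ⟨⟨x', hxU⟩⟩
  letI := TopCat.Presheaf.algebra_section_stalk g.normalization.presheaf
    (⟨x', hxU⟩ : (g.fromNormalization ⁻¹ᵁ U : g.normalization.Opens))
  haveI := hV.isLocalization_stalk ⟨x', hxU⟩
  exact isIntegrallyClosed_of_isLocalization _ (hV.primeIdealOf ⟨x', hxU⟩).asIdeal.primeCompl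
    (Ideal.primeCompl_le_nonZeroDivisors _)

include hg in
lemma fromNormalization_genericPoint :
    g.fromNormalization (genericPoint g.normalization) = genericPoint Y := by
  rw [← toNormalization_eq_genericPoint hg, ← Scheme.Hom.comp_apply,
    g.toNormalization_fromNormalization, hg, Scheme.Hom.comp_apply]
  haveI : Subsingleton ↥(Spec (Y.presheaf.stalk (genericPoint Y))) :=
    inferInstanceAs (Subsingleton (PrimeSpectrum Y.functionField))
  rw [Subsingleton.elim (Spec.map (CommRingCat.ofHom φ) _) (IsLocalRing.closedPoint _)]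
  exact Scheme.fromSpecStalk_closedPoint

include hg in
lemma preimage_genericPoint :
    g.fromNormalization.base ⁻¹' {genericPoint Y} = {genericPoint g.normalization} := by
  ext x'
  constructor
  · intro hx'
    have hx : g.fromNormalization x' = genericPoint Y := hx'
    obtain ⟨_, ⟨U, hU, rfl⟩, hηU, -⟩ :=
      Y.isBasis_affineOpens.exists_subset_of_mem_open (Set.mem_univ (genericPoint Y)) isOpen_univ
    obtain ⟨c⟩ := nonempty_chart hg hU hηU
    have hxU : x' ∈ g.fromNormalization ⁻¹ᵁ U := show g.fromNormalization x' ∈ U by rw [hx]; exact hηU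
    haveI : Nonempty U := ⟨⟨_, hηU⟩⟩
    haveI : Nonempty (g.fromNormalization ⁻¹ᵁ U : g.normalization.Opens) := ⟨⟨x', hxU⟩⟩
    have hV := hU.preimage g.fromNormalization
    have hgen : genericPoint g.normalization ∈ g.fromNormalization ⁻¹ᵁ U :=
      show g.fromNormalization _ ∈ U by rw [fromNormalization_genericPoint hg]; exact hηU
    have hcomap : ∀ (z : g.normalization) (hz : z ∈ g.fromNormalization ⁻¹ᵁ U)
        (_ : g.fromNormalization z = genericPoint Y),
        (hV.primeIdealOf ⟨z, hz⟩).asIdeal.comap (g.fromNormalization.app U).hom = ⊥ := by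
      intro z hz hzη
      have h := IsAffineOpen.comap_primeIdealOf_appLE (f := g.fromNormalization) U hU
        (g.fromNormalization ⁻¹ᵁ U) hV le_rfl hz
      rw [← Scheme.Hom.app_eq_appLE] at h
      refine (congrArg PrimeSpectrum.asIdeal h).trans ?_
      refine le_bot_iff.1 fun a ha => ?_
      rw [Ideal.mem_bot]
      have hnu : ¬ IsUnit ((Y.presheaf.germ U (genericPoint Y) hηU).hom a) := by
        intro hu
        have hb := (Y.mem_basicOpen a (genericPoint Y) hηU).2 hu
        exact (QCohBase.mem_basicOpen_iff_notMem_prime hU (g.fromNormalization z) hz a).1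
          (by rw [hzη]; exact hb) ha
      have h0 : (Y.presheaf.germ U (genericPoint Y) hηU).hom a = 0 := by
        by_contra h0
        exact hnu (isUnit_iff_ne_zero.2 (show ((Y.presheaf.germ U (genericPoint Y) hηU).hom a :
          Y.functionField) ≠ 0 from h0))
      exact AlgebraicGeometry.germ_injective_of_isIntegral Y (genericPoint Y) hηU
        (h0.trans (map_zero _).symm)
    letI : Algebra Γ(Y, U) Γ(g.normalization, g.fromNormalization ⁻¹ᵁ U) :=
      (g.fromNormalization.app U).hom.toAlgebra
    haveI : Algebra.IsIntegral Γ(Y, U) Γ(g.normalization, g.fromNormalization ⁻¹ᵁ U) :=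
      ⟨g.fromNormalization.isIntegral_app U hU⟩
    have h1 := Ideal.eq_bot_of_comap_eq_bot (R := Γ(Y, U)) (hcomap x' hxU hx)
    have h2 := Ideal.eq_bot_of_comap_eq_bot (R := Γ(Y, U))
      (hcomap _ hgen (fromNormalization_genericPoint hg))
    have h3 := congrArg hV.fromSpec.base
      (PrimeSpectrum.ext (x := hV.primeIdealOf ⟨x', hxU⟩) (y := hV.primeIdealOf ⟨_, hgen⟩)
        (h1.trans h2.symm))
    rw [hV.fromSpec_primeIdealOf, hV.fromSpec_primeIdealOf] at h3
    exact h3
  · rintro rfl
    exact fromNormalization_genericPoint hg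

include hg in
lemma isField_stalk :
    IsField (g.normalization.presheaf.stalk (g.toNormalization (IsLocalRing.closedPoint K))) := by
  rw [toNormalization_eq_genericPoint hg]
  exact (inferInstance : Field g.normalization.functionField).toIsField

include hg in
lemma injective_stalkClosedPointTo :
    Function.Injective (Scheme.stalkClosedPointTo g.toNormalization).hom := by
  letI := (isField_stalk hg).toField
  exact RingHom.injective (Scheme.stalkClosedPointTo g.toNormalization).hom

include hg in
lemma range_stalkClosedPointTo :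
    Set.range (Scheme.stalkClosedPointTo g.toNormalization).hom =
      {y : K | ∃ q : Polynomial Y.functionField, q.Monic ∧ Polynomial.eval₂ φ y q = 0} := by
  obtain ⟨_, ⟨U, hU, rfl⟩, hηU, -⟩ :=
    Y.isBasis_affineOpens.exists_subset_of_mem_open (Set.mem_univ (genericPoint Y)) isOpen_univ
  obtain ⟨c⟩ := nonempty_chart hg hU hηU
  haveI : Nonempty U := ⟨⟨_, hηU⟩⟩
  have hV := hU.preimage g.fromNormalization
  set S := (Scheme.stalkClosedPointTo g.toNormalization).hom with hS
  letI : Algebra Y.functionField K := φ.toAlgebra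
  letI : Algebra Γ(Y, U) K := (φ.comp (Y.presheaf.germ U _ hηU).hom).toAlgebra
  haveI : IsScalarTower Γ(Y, U) Y.functionField K := IsScalarTower.of_algebraMap_eq fun _ => rfl
  haveI := functionField_isFractionRing_of_isAffineOpen Y U hU
  have hset : ∀ y : K, (∃ q : Polynomial Y.functionField, q.Monic ∧ Polynomial.eval₂ φ y q = 0) ↔
      _root_.IsIntegral Y.functionField y := fun y => Iff.rfl
  ext y
  rw [Set.mem_setOf_eq, hset]
  constructor
  · rintro ⟨z, rfl⟩
    letI := (g.normalization.presheaf.germ _ _ c.mem).hom.toAlgebra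
    haveI : IsLocalization.AtPrime
        (g.normalization.presheaf.stalk (g.toNormalization (IsLocalRing.closedPoint K)))
        (hV.primeIdealOf ⟨_, c.mem⟩).asIdeal := hV.isLocalization_stalk ⟨_, c.mem⟩
    obtain ⟨⟨a, b⟩, hab⟩ := IsLocalization.surj (hV.primeIdealOf ⟨_, c.mem⟩).asIdeal.primeCompl z
    have hb : c.θ b ≠ 0 := fun h0 => by
      have hu : IsUnit ((g.normalization.presheaf.germ _ _ c.mem).hom b.1) :=
        IsLocalization.map_units
          (g.normalization.presheaf.stalk (g.toNormalization (IsLocalRing.closedPoint K))) b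
      have := (hu.map S).ne_zero
      exact this ((c.eq _).symm.trans h0)
    have hz : S z = c.θ a / c.θ b := by
      rw [eq_div_iff hb, c.eq, c.eq, ← map_mul]
      exact congrArg S hab
    rw [hz, div_eq_mul_inv]
    have hint : ∀ b, _root_.IsIntegral Y.functionField (c.θ b) := fun b => by
      obtain ⟨q, hq, hq0⟩ := (c.range _).1 ⟨b, rfl⟩
      exact IsIntegral.tower_top (R := Γ(Y, U)) (show _root_.IsIntegral Γ(Y, U) (c.θ b) from ⟨q, hq, hq0⟩)
    exact (hint a).mul (hint b).inv
  · intro hy
    obtain ⟨⟨d, hd⟩, hdy⟩ := hy.exists_multiple_integral_of_isLocalization (nonZeroDivisors Γ(Y, U))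
    have hd0 : algebraMap Γ(Y, U) K d ≠ 0 := by
      refine fun h => nonZeroDivisors.ne_zero hd
        (IsFractionRing.injective Γ(Y, U) Y.functionField (φ.injective ?_))
      rw [map_zero, map_zero]
      exact h
    obtain ⟨a, ha⟩ : (algebraMap Γ(Y, U) K d * y) ∈ c.θ.range :=
      (c.range _).2 (by
        have h := hdy
        rw [Submonoid.smul_def, Algebra.smul_def] at h
        exact h)
    letI := (isField_stalk hg).toField
    refine ⟨(g.normalization.presheaf.germ _ _ c.mem).hom a /
      (g.normalization.presheaf.germ _ _ c.mem).hom ((g.fromNormalization.app U).hom d), ?_⟩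
    rw [map_div₀, ← c.eq, ← c.eq, ha, c.comp]
    exact mul_div_cancel_left₀ y hd0

include hg in
lemma surjective_fromNormalization : Surjective g.fromNormalization := by
  refine ⟨fun y => ?_⟩
  have hc : IsClosed (Set.range g.fromNormalization) :=
    g.fromNormalization.isClosedMap.isClosed_range
  exact ((genericPoint_spec Y).specializes trivial).mem_closed hc
    ⟨genericPoint g.normalization, fromNormalization_genericPoint hg⟩

include hg in
lemma residueFieldMap_bijective (hφ : Function.Surjective φ) :
    Function.Bijective (g.fromNormalization.residueFieldMap (genericPoint g.normalization)).hom := by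
  refine ⟨RingHom.injective _, fun w => ?_⟩
  suffices ∀ x, x = g.toNormalization (IsLocalRing.closedPoint K) →
      Function.Surjective (g.fromNormalization.stalkMap x).hom by
    obtain ⟨z, rfl⟩ := g.normalization.residue_surjective _ w
    obtain ⟨a, rfl⟩ := this _ (toNormalization_eq_genericPoint hg).symm z
    refine ⟨(Y.residue _).hom a, ?_⟩
    rw [← RingHom.comp_apply, ← RingHom.comp_apply, ← CommRingCat.hom_comp, ← CommRingCat.hom_comp,
      Scheme.residue_residueFieldMap]
  rintro x rfl z
  obtain ⟨_, ⟨U, hU, rfl⟩, hηU, -⟩ :=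
    Y.isBasis_affineOpens.exists_subset_of_mem_open (Set.mem_univ (genericPoint Y)) isOpen_univ
  obtain ⟨c⟩ := nonempty_chart hg hU hηU
  haveI : Nonempty U := ⟨⟨_, hηU⟩⟩
  haveI := functionField_isFractionRing_of_isAffineOpen Y U hU
  obtain ⟨v, hv⟩ := hφ ((Scheme.stalkClosedPointTo g.toNormalization).hom z)
  obtain ⟨a, b, hb, hab⟩ := IsFractionRing.div_surjective Γ(Y, U) v
  let x := g.toNormalization (IsLocalRing.closedPoint K)
  have hxη : g.fromNormalization x = genericPoint Y := by
    simp only [x]
    rw [toNormalization_eq_genericPoint hg, fromNormalization_genericPoint hg]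
  let gm : Γ(Y, U) →+* Y.presheaf.stalk (g.fromNormalization x) :=
    (Y.presheaf.germ U (g.fromNormalization x) c.mem).hom
  have hgm : ∀ d, (Scheme.stalkClosedPointTo g.toNormalization).hom
      ((g.fromNormalization.stalkMap x).hom (gm d)) = φ ((Y.presheaf.germ U _ hηU).hom d) := by
    intro d
    rw [← c.comp, c.eq]
    exact congrArg _ (g.fromNormalization.germ_stalkMap_apply U x c.mem d)
  have hu : IsUnit (gm b) := by
    refine (Y.mem_basicOpen b (g.fromNormalization x) c.mem).1 ?_
    have h1 : genericPoint Y ∈ Y.basicOpen b :=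
      (Y.mem_basicOpen b (genericPoint Y) hηU).2
        (IsLocalization.map_units (M := nonZeroDivisors Γ(Y, U)) Y.functionField ⟨b, hb⟩)
    exact hxη.symm ▸ h1
  obtain ⟨ub, hub⟩ := hu
  refine ⟨gm a * (ub⁻¹ : (Y.presheaf.stalk (g.fromNormalization x))ˣ), ?_⟩
  apply injective_stalkClosedPointTo hg
  have hb0 : φ ((Y.presheaf.germ U _ hηU).hom b) ≠ 0 := fun h0 =>
    nonZeroDivisors.ne_zero hb (AlgebraicGeometry.germ_injective_of_isIntegral Y (genericPoint Y) hηU
      ((φ.injective (h0.trans (map_zero φ).symm)).trans (map_zero _).symm))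
  rw [← hv, ← hab, map_div₀, eq_div_iff]
  · show _ * φ ((Y.presheaf.germ U _ hηU).hom b) = φ ((Y.presheaf.germ U _ hηU).hom a)
    rw [← hgm b, ← map_mul, ← map_mul, mul_assoc, ← hub, Units.inv_mul, mul_one, hgm a]
  · exact hb0

end Groth.Agent.EGA2Curve
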