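import Groth.Agent.DVRDom.Codim1
import Groth.Agent.DivPts.Basic
import Groth.Prelude.Def_Pi1
import Groth.Prelude.Def_CurvBase
import Mathlib.AlgebraicGeometry.SpreadingOut
import Mathlib.AlgebraicGeometry.FunctionField

/-! Extension of morphisms from normal curves to proper schemes. -/

set_option autoImplicit false
set_option linter.style.haveILetI false

universe u

open CategoryTheory CategoryTheory.Limits AlgebraicGeometry Opposite

namespace Groth.Agent.EGA2Curve

/-- On a curve every local ring has dimension at most one. -/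
theorem ringKrullDim_stalk_le_one {X : Scheme.{u}} [CompactSpace X]
    (hc : ∀ x : X, IsClosed ({x} : Set X) → ringKrullDim (X.presheaf.stalk x) = 1) (y : X) :
    ringKrullDim (X.presheaf.stalk y) ≤ 1 := by
  obtain ⟨x, hx, hxc⟩ := IsClosed.exists_closed_singleton (S := closure {y}) isClosed_closure
    ⟨y, subset_closure rfl⟩
  obtain ⟨_, ⟨U, hU, rfl⟩, hxU, -⟩ :=
    X.isBasis_affineOpens.exists_subset_of_mem_open (Set.mem_univ x) isOpen_univ
  have hyx : y ⤳ x := specializes_iff_mem_closure.2 hx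
  have hyU : y ∈ U := hyx.mem_open U.2 hxU
  rw [DivPts.ringKrullDim_stalk_eq_height ⟨U, hU⟩ hyU, ← hc x hxc,
    DivPts.ringKrullDim_stalk_eq_height ⟨U, hU⟩ hxU]
  exact_mod_cast Ideal.height_mono ((AssPts.specializes_iff hU x hxU hyU).1 hyx)

/-- A Noetherian normal local domain of dimension at most one is a valuation ring. -/
theorem valuationRing_of_normal {R : Type u} [CommRing R] [IsLocalRing R] [IsNoetherianRing R]
    [IsDomain R] [IsIntegrallyClosed R] (h : ringKrullDim R ≤ 1) : ValuationRing R := by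
  by_cases hf : IsField R
  · letI := hf.toField
    infer_instance
  · haveI : Ring.KrullDimLE 1 R := Ring.krullDimLE_iff.2 (by exact_mod_cast h)
    haveI : Ring.DimensionLEOne R := ⟨fun {p} hp0 hp =>
      Ring.krullDimLE_one_iff_of_noZeroDivisors.1 inferInstance p hp0 hp⟩
    haveI : IsDedekindDomain R := { }
    exact ((IsDiscreteValuationRing.TFAE R hf).out 2 1 rfl rfl).1 ‹_›

/-- `Spec O_{X,x} → X → Spec k` is the algebra map. -/
theorem fromSpecStalk_over {k : Type u} [Field k] {X : Scheme.{u}}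
    [X.Over (Spec (CommRingCat.of k))] (x : X) :
    X.fromSpecStalk x ≫ (X ↘ Spec (CommRingCat.of k)) =
      Spec.map (CommRingCat.ofHom (Curv2.stalkMap k X x)) := by
  set p := X ↘ Spec (CommRingCat.of k)
  have h1 : CommRingCat.ofHom (Curv2.stalkMap k X x) =
      (Scheme.ΓSpecIso (CommRingCat.of k)).inv ≫ p.appTop ≫ X.presheaf.germ ⊤ x trivial := rfl
  have h2 : (Spec (CommRingCat.of k)).toSpecΓ ≫ Spec.map (Scheme.ΓSpecIso (CommRingCat.of k)).inv =
      𝟙 _ := by simp [← Spec.map_comp]
  rw [h1, Spec.map_comp, Spec.map_comp, ← X.fromSpecStalk_toSpecΓ x, Category.assoc,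
    Category.assoc, ← Scheme.toSpecΓ_naturality_assoc, h2, Category.comp_id]

/-- Extension of morphisms from normal curves into proper schemes. -/
theorem existsUnique_extension {S X Y : Scheme.{u}} [IsLocallyNoetherian X] [CompactSpace X]
    (pX : X ⟶ S) (pY : Y ⟶ S) [IsProper pY]
    (hc : ∀ x : X, IsClosed ({x} : Set X) → ringKrullDim (X.presheaf.stalk x) = 1)
    (hn : Pi1.IsNormalScheme X) (U : X.Opens) (hU : Dense (U : Set X))
    (g : (U : Scheme.{u}) ⟶ Y) (hg : g ≫ pY = U.ι ≫ pX) :
    ∃! g' : X ⟶ Y, U.ι ≫ g' = g ∧ g' ≫ pY = pX := by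
  haveI : ∀ x : X, _root_.IsReduced (X.presheaf.stalk x) := fun x => by
    haveI := (hn x).1
    infer_instance
  haveI : IsReduced X := isReduced_of_isReduced_stalk X
  let P := pullback pX pY
  let f : P ⟶ X := pullback.fst pX pY
  let s : (U : Scheme.{u}) ⟶ P := pullback.lift U.ι g hg.symm
  have hs : s ≫ f = U.ι := pullback.lift_fst _ _ _
  have hloc : ∀ y : X, ∃ (W : X.Opens) (_ : y ∈ W) (h : (W : Scheme.{u}) ⟶ P), h ≫ f = W.ι ∧
      X.homOfLE (inf_le_left : W ⊓ U ≤ W) ≫ h = X.homOfLE (inf_le_right : W ⊓ U ≤ U) ≫ s := by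
    intro y
    haveI := (hn y).1
    haveI := (hn y).2
    haveI : IsProper f := inferInstance
    haveI := valuationRing_of_normal (ringKrullDim_stalk_le_one hc y)
    exact DVRDom.exists_local_extension f f.isClosedMap U hU s hs y
  choose W hyW h hh hagree using hloc
  obtain ⟨T, hUT, s', h1, h2, h3⟩ := DVRDom.exists_glued_extension f U hU s hs W h hh hagree
  obtain rfl : T = ⊤ := top_unique fun y _ => h3 y (hyW y)
  have hι : X.homOfLE hUT ≫ (⊤ : X.Opens).ι = U.ι := X.homOfLE_ι hUT
  refine ⟨X.topIso.inv ≫ s' ≫ pullback.snd pX pY, ⟨?_, ?_⟩, fun g'' hg'' => ?_⟩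
  · rw [← hι, Category.assoc, ← Scheme.topIso_hom, Iso.hom_inv_id_assoc, reassoc_of% h2]
    exact pullback.lift_snd _ _ _
  · rw [Category.assoc, Category.assoc, ← pullback.condition, reassoc_of% h1, ← Scheme.topIso_hom, Iso.inv_hom_id_assoc]
  · haveI : IsDominant U.ι := ⟨by rw [DenseRange, Scheme.Opens.range_ι]; exact hU⟩
    refine ext_of_isDominant_of_isSeparated pY ?_ U.ι ?_
    · rw [hg''.2, Category.assoc, Category.assoc, ← pullback.condition, reassoc_of% h1,
        ← Scheme.topIso_hom, Iso.inv_hom_id_assoc]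
    · rw [hg''.1, ← hι, Category.assoc, ← Scheme.topIso_hom, Iso.hom_inv_id_assoc, reassoc_of% h2]
      exact (pullback.lift_snd _ _ _).symm

/-- Dominant morphisms from a normal curve to a proper variety correspond to field embeddings. -/
theorem existsUnique_of_functionField {k : Type u} [Field k] {X Y : Scheme.{u}}
    [X.Over (Spec (CommRingCat.of k))] [Y.Over (Spec (CommRingCat.of k))] [IsLocallyNoetherian X]
    [CompactSpace X] [IsIntegral X] [IsIntegral Y] [IsProper (Y ↘ Spec (CommRingCat.of k))]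
    (hc : ∀ x : X, IsClosed ({x} : Set X) → ringKrullDim (X.presheaf.stalk x) = 1)
    (hn : Pi1.IsNormalScheme X) (φ : Y.functionField →+* X.functionField)
    (hφ : ∀ c : k, φ (Curv2.stalkMap k Y (genericPoint Y) c) = Curv2.stalkMap k X (genericPoint X) c) :
    ∃! u : X ⟶ Y, u ≫ (Y ↘ Spec (CommRingCat.of k)) = X ↘ Spec (CommRingCat.of k) ∧
      ∃ hu : u.base (genericPoint X) = genericPoint Y,
        (Y.presheaf.stalkSpecializes (specializes_of_eq hu) ≫ u.stalkMap (genericPoint X)).hom = φ := by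
  let φc : Y.presheaf.stalk (genericPoint Y) ⟶ X.presheaf.stalk (genericPoint X) :=
    CommRingCat.ofHom φ
  let ψ : Spec (X.presheaf.stalk (genericPoint X)) ⟶ Y :=
    Spec.map φc ≫ Y.fromSpecStalk (genericPoint Y)
  have hψ : ψ ≫ (Y ↘ Spec (CommRingCat.of k)) =
      X.fromSpecStalk (genericPoint X) ≫ (X ↘ Spec (CommRingCat.of k)) := by
    rw [fromSpecStalk_over, Category.assoc, fromSpecStalk_over, ← Spec.map_comp]
    congr 1
    ext c
    exact hφ c
  haveI : Subsingleton ↥(Spec (CommRingCat.of Y.functionField)) :=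
    inferInstanceAs (Subsingleton (PrimeSpectrum Y.functionField))
  have hψη : ψ (IsLocalRing.closedPoint _) = genericPoint Y := by
    simp only [ψ, Scheme.Hom.comp_apply]
    haveI : Subsingleton ↥(Spec (Y.presheaf.stalk (genericPoint Y))) :=
      inferInstanceAs (Subsingleton (PrimeSpectrum Y.functionField))
    rw [Subsingleton.elim (Spec.map φc _)
      (IsLocalRing.closedPoint (Y.presheaf.stalk (genericPoint Y)))]
    exact Scheme.fromSpecStalk_closedPoint
  -- translate the condition on stalks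
  have hiff : ∀ u : X ⟶ Y, (∃ hu : u.base (genericPoint X) = genericPoint Y,
      (Y.presheaf.stalkSpecializes (specializes_of_eq hu) ≫ u.stalkMap (genericPoint X)).hom = φ) ↔
      X.fromSpecStalk (genericPoint X) ≫ u = ψ := by
    intro u
    constructor
    · rintro ⟨hu, he⟩
      have he' : Y.presheaf.stalkSpecializes (specializes_of_eq hu) ≫
          u.stalkMap (genericPoint X) = φc := CommRingCat.hom_ext he
      simp only [ψ]
      rw [← he', Spec.map_comp, Category.assoc,
        Scheme.SpecMap_stalkSpecializes_fromSpecStalk, Scheme.SpecMap_stalkMap_fromSpecStalk]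
    · intro he
      have hu : u.base (genericPoint X) = genericPoint Y := by
        rw [← hψη, ← he, Scheme.Hom.comp_apply, Scheme.fromSpecStalk_closedPoint]
      refine ⟨hu, congrArg (fun F => CommRingCat.Hom.hom F) (Spec.map_injective (a₁ := _ ≫ _)
        (a₂ := φc) ?_)⟩
      rw [← cancel_mono (Y.fromSpecStalk (genericPoint Y)), Spec.map_comp, Category.assoc,
        Scheme.SpecMap_stalkSpecializes_fromSpecStalk, Scheme.SpecMap_stalkMap_fromSpecStalk]
      exact he
  obtain ⟨U, hxU, g, hg1, hg2⟩ := spread_out_of_isGermInjective'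
    (X ↘ Spec (CommRingCat.of k)) (Y ↘ Spec (CommRingCat.of k)) ψ hψ
  have hUd : Dense (U : Set X) := U.2.dense ⟨_, hxU⟩
  obtain ⟨u, ⟨hu1, hu2⟩, huniq⟩ := existsUnique_extension (X ↘ Spec (CommRingCat.of k))
    (Y ↘ Spec (CommRingCat.of k)) hc hn U hUd g hg2
  have huψ : X.fromSpecStalk (genericPoint X) ≫ u = ψ := by
    rw [hg1, ← hu1, Scheme.Opens.fromSpecStalkOfMem_ι_assoc]
  refine ⟨u, ⟨hu2, (hiff u).2 huψ⟩, fun v hv => ?_⟩
  obtain ⟨W, hxW, hW⟩ := spread_out_unique_of_isGermInjective' v u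
    (((hiff v).1 hv.2).trans huψ.symm)
  haveI : IsDominant W.ι := ⟨by rw [DenseRange, Scheme.Opens.range_ι]; exact W.2.dense ⟨_, hxW⟩⟩
  exact ext_of_isDominant_of_isSeparated (Y ↘ Spec (CommRingCat.of k)) (hv.1.trans hu2.symm) W.ι hW

end Groth.Agent.EGA2Curve
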