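import Groth.Agent.N2Lib.Basic
import Groth.Agent.N2Poly.More
import Groth.Agent.S4435
import Mathlib.RingTheory.NoetherNormalization

/-! Finiteness of integral closure for finitely generated algebras over a field. -/

set_option autoImplicit false
set_option linter.style.haveILetI false

universe u

namespace Groth.Agent.EGA2Curve

theorem finite_integralClosure (k : Type u) [Field k] (A : Type u) [CommRing A] [IsDomain A]
    [Algebra k A] [Algebra.FiniteType k A] (K L : Type u) [Field K] [Algebra A K] [IsFractionRing A K]
    [Field L] [Algebra A L] [Algebra K L] [IsScalarTower A K L] [FiniteDimensional K L] :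
    Module.Finite A (integralClosure A L) := by
  obtain ⟨s, g, hinj, hfin⟩ := exists_finite_inj_algHom_of_fg k A
  let P := MvPolynomial (Fin s) k
  letI : Algebra P A := g.toRingHom.toAlgebra
  haveI : Module.Finite P A := hfin
  letI : Algebra P K := ((algebraMap A K).comp (algebraMap P A)).toAlgebra
  letI : Algebra P L := ((algebraMap A L).comp (algebraMap P A)).toAlgebra
  haveI : IsScalarTower P A L := IsScalarTower.of_algebraMap_eq fun _ => rfl
  have hPK : Function.Injective (algebraMap P K) := (IsFractionRing.injective A K).comp hinj
  let F := FractionRing P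
  let σ : F →+* K := IsFractionRing.lift hPK
  letI : Algebra F K := σ.toAlgebra
  have hσ : ∀ p, σ (algebraMap P F p) = algebraMap P K p := IsFractionRing.lift_algebraMap hPK
  haveI : Module.Finite F K := S4435.finite_of_frac σ (algebraMap P F) (algebraMap P A) (algebraMap A K)
    (fun p => hσ p) hfin (fun l => by
      obtain ⟨a, b, -, h⟩ := IsFractionRing.div_surjective (A := A) l
      exact ⟨a, b, h.symm⟩)
  letI : Algebra F L := ((algebraMap K L).comp σ).toAlgebra
  haveI : IsScalarTower F K L := IsScalarTower.of_algebraMap_eq fun _ => rfl
  haveI : IsScalarTower P F L := IsScalarTower.of_algebraMap_eq fun p => by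
    show algebraMap A L (algebraMap P A p) = algebraMap K L (σ (algebraMap P F p))
    rw [hσ]
    exact IsScalarTower.algebraMap_apply A K L _
  haveI : FiniteDimensional F L := Module.Finite.trans K L
  haveI : Module.Finite P (integralClosure P L) :=
    N2Lib.finite_integralClosure_of_isN2 (N2Poly.isN2_mvPolynomial_fin k (N2Poly.isN2_field k) s) F L
  haveI : Algebra.IsIntegral P A := Algebra.IsIntegral.of_finite P A
  haveI : Module.Finite P (integralClosure A L) :=
    Module.Finite.of_surjective
      ({ toFun := fun x => ⟨x.1, x.2.tower_top⟩, map_add' := fun _ _ => rfl, map_smul' := fun c x => by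
          apply Subtype.ext
          show c • (x : L) = c • (x : L)
          rfl } : integralClosure P L →ₗ[P] integralClosure A L)
      fun x => ⟨⟨x.1, isIntegral_trans (R := P) _ x.2⟩, rfl⟩
  exact Module.Finite.of_restrictScalars_finite P A _

end Groth.Agent.EGA2Curve
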