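import Groth.Agent.EGA2Curve.Normalization

/-! Function field of a normalization. -/

set_option autoImplicit false
set_option linter.style.haveILetI false

universe u

open CategoryTheory CategoryTheory.Limits AlgebraicGeometry

namespace Groth.Agent.EGA2Curve

variable {k : Type u} [Field k] {Y : Scheme.{u}} [IsIntegral Y] {K : Type u} [Field K]
  {φ : Y.functionField →+* K} {g : Spec (CommRingCat.of K) ⟶ Y}
  (hg : g = Spec.map (CommRingCat.ofHom φ) ≫ Y.fromSpecStalk (genericPoint Y))
  [QuasiCompact g] [QuasiSeparated g]

include hg in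
/-- The function field of the normalization is the given extension, compatibly. -/
lemma exists_functionField_equiv (hφ : φ.Finite) {U : Y.Opens} (hU : IsAffineOpen U)
    (hη : genericPoint Y ∈ U) (hη' : genericPoint g.normalization ∈ g.fromNormalization ⁻¹ᵁ U) :
    ∃ e : g.normalization.functionField ≃+* K, ∀ a,
      e ((g.normalization.presheaf.germ _ _ hη').hom ((g.fromNormalization.app U).hom a)) =
        φ ((Y.presheaf.germ U _ hη).hom a) := by
  obtain ⟨e, he⟩ := exists_ringEquiv_sections hg hU hη
  let L := Γ(Spec (CommRingCat.of K), g ⁻¹ᵁ U)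
  letI algL : Algebra Γ(Y, U) L := (g.app U).hom.toAlgebra
  haveI : Nonempty U := ⟨⟨_, hη⟩⟩
  haveI := functionField_isFractionRing_of_isAffineOpen Y U hU
  letI : Algebra Y.functionField K := φ.toAlgebra
  letI : Algebra Γ(Y, U) K := (φ.comp (algebraMap Γ(Y, U) Y.functionField)).toAlgebra
  haveI : IsScalarTower Γ(Y, U) Y.functionField K := IsScalarTower.of_algebraMap_eq fun _ => rfl
  haveI : FiniteDimensional Y.functionField K := hφ
  let eA : L ≃ₐ[Γ(Y, U)] K := AlgEquiv.ofRingEquiv (f := e) fun a => he a
  haveI : IsFractionRing (integralClosure Γ(Y, U) K) K :=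
    integralClosure.isFractionRing_of_finite_extension Y.functionField K
  haveI : Nonempty (g.fromNormalization ⁻¹ᵁ U : g.normalization.Opens) := ⟨⟨_, hη'⟩⟩
  haveI := functionField_isFractionRing_of_isAffineOpen g.normalization _ (hU.preimage g.fromNormalization)
  let h : Γ(g.normalization, g.fromNormalization ⁻¹ᵁ U) ≃+* integralClosure Γ(Y, U) K :=
    (g.normalizationObjIso hU).commRingCatIsoToRingEquiv.trans eA.mapIntegralClosure.toRingEquiv
  refine ⟨IsFractionRing.ringEquivOfRingEquiv h, fun a => ?_⟩
  have h1 : IsFractionRing.ringEquivOfRingEquiv (K := g.normalization.functionField) (L := K) h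
      (algebraMap Γ(g.normalization, g.fromNormalization ⁻¹ᵁ U) g.normalization.functionField
        ((g.fromNormalization.app U).hom a)) =
      algebraMap (integralClosure Γ(Y, U) K) K (h ((g.fromNormalization.app U).hom a)) :=
    IsFractionRing.ringEquivOfRingEquiv_algebraMap h _
  refine h1.trans ?_
  have h2 : (g.normalizationObjIso hU).hom.hom ((g.fromNormalization.app U).hom a) =
      algebraMap Γ(Y, U) (integralClosure Γ(Y, U) L) a := by
    rw [← CommRingCat.comp_apply, g.fromNormalization_app hU, Category.assoc, Iso.inv_hom_id,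
      Category.comp_id]
    rfl
  show ((eA.mapIntegralClosure ((g.normalizationObjIso hU).hom.hom
    ((g.fromNormalization.app U).hom a))) : K) = _
  rw [h2, AlgEquiv.commutes]
  rfl

end Groth.Agent.EGA2Curve
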