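import Groth.Agent.EGA2Curve.Finite
import Groth.Agent.DimTheory.Algebra
import Groth.Prelude.Def_Pi1
import Mathlib.AlgebraicGeometry.Normalization

/-! Normalization of an integral scheme of finite type over a field in a finite extension. -/

set_option autoImplicit false
set_option linter.style.haveILetI false

universe u

open CategoryTheory CategoryTheory.Limits AlgebraicGeometry

namespace Groth.Agent.EGA2Curve

variable {k : Type u} [Field k] {Y : Scheme.{u}} [IsIntegral Y] {K : Type u} [Field K]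
  {φ : Y.functionField →+* K} {g : Spec (CommRingCat.of K) ⟶ Y}

lemma mem_preimage (hg : g = Spec.map (CommRingCat.ofHom φ) ≫ Y.fromSpecStalk (genericPoint Y))
    (U : Y.Opens) (z : Spec (CommRingCat.of K)) (hη : genericPoint Y ∈ U) : z ∈ g ⁻¹ᵁ U := by
  have : g z = genericPoint Y := by
    rw [hg, Scheme.Hom.comp_apply]
    haveI : Subsingleton ↥(Spec (Y.presheaf.stalk (genericPoint Y))) :=
      inferInstanceAs (Subsingleton (PrimeSpectrum Y.functionField))
    rw [Subsingleton.elim (Spec.map (CommRingCat.ofHom φ) z) (IsLocalRing.closedPoint _)]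
    exact Scheme.fromSpecStalk_closedPoint
  show g z ∈ U
  rw [this]
  exact hη

lemma mem_of_nonempty (U : Y.Opens) (h : (U : Set Y).Nonempty) : genericPoint Y ∈ U :=
  ((genericPoint_spec Y).mem_open_set_iff U.isOpen).mpr (by simpa using h)

variable (hg : g = Spec.map (CommRingCat.ofHom φ) ≫ Y.fromSpecStalk (genericPoint Y))

include hg in
lemma exists_ringEquiv_sections {U : Y.Opens} (hU : IsAffineOpen U) (hη : genericPoint Y ∈ U) :
    ∃ e : Γ(Spec (CommRingCat.of K), g ⁻¹ᵁ U) ≃+* K,
      ∀ a, e ((g.app U).hom a) = φ ((Y.presheaf.germ U _ hη).hom a) := by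
  let ψ : Γ(Y, U) ⟶ CommRingCat.of K := Y.presheaf.germ U _ hη ≫ CommRingCat.ofHom φ
  have htop : g ⁻¹ᵁ U = ⊤ := top_le_iff.mp fun z _ => mem_preimage hg U z hη
  let e : Γ(Spec (CommRingCat.of K), g ⁻¹ᵁ U) ≅ CommRingCat.of K :=
    (Spec (CommRingCat.of K)).presheaf.mapIso (eqToIso htop.symm).op ≪≫ Scheme.ΓSpecIso _
  have hgψ : g = Spec.map ψ ≫ hU.fromSpec := by
    rw [hg, ← hU.fromSpecStalk_eq_fromSpecStalk hη]
    simp only [ψ, Spec.map_comp, Category.assoc]
    rfl
  have hfU : hU.fromSpec ⁻¹ᵁ U = ⊤ := hU.fromSpec_preimage_self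
  have h2 : hU.fromSpec.appLE U ⊤ hfU.ge = (Scheme.ΓSpecIso Γ(Y, U)).inv := by
    rw [Scheme.Hom.appLE, IsAffineOpen.fromSpec_app_self, Category.assoc, ← Functor.map_comp]
    exact (congrArg (fun f => (Scheme.ΓSpecIso Γ(Y, U)).inv ≫ f)
      ((Spec Γ(Y, U)).presheaf.map_id _)).trans (Category.comp_id _)
  have key : g.app U ≫ e.hom = ψ := by
    have h1 : g.app U ≫ e.hom = g.appLE U ⊤ htop.ge ≫ (Scheme.ΓSpecIso (CommRingCat.of K)).hom := by
      simp only [e, Iso.trans_hom, Functor.mapIso_hom, Scheme.Hom.appLE, Category.assoc]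
      rfl
    have h3 : g.appLE U ⊤ htop.ge = hU.fromSpec.appLE U ⊤ hfU.ge ≫ (Spec.map ψ).appTop := by
      subst hgψ
      rw [← Scheme.Hom.appLE_comp_appLE _ _ U ⊤ ⊤ hfU.ge le_top]
      congr 1
    rw [h1, h3, h2, ← Scheme.ΓSpecIso_inv_naturality, Category.assoc, Iso.inv_hom_id, Category.comp_id]
  exact ⟨e.commRingCatIsoToRingEquiv, fun a => congr($(key).hom a)⟩

variable (s : Y ⟶ Spec (CommRingCat.of k)) [LocallyOfFiniteType s]

include hg s in
/-- The sections of the normalization over a nonempty affine open. -/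
lemma exists_package (hφ : φ.Finite) {U : Y.Opens} (hU : IsAffineOpen U) (hne : (U : Set Y).Nonempty) :
    letI := (g.app U).hom.toAlgebra
    Module.Finite Γ(Y, U) (integralClosure Γ(Y, U) Γ(Spec (CommRingCat.of K), g ⁻¹ᵁ U)) ∧
      IsIntegrallyClosed (integralClosure Γ(Y, U) Γ(Spec (CommRingCat.of K), g ⁻¹ᵁ U)) ∧
      Function.Injective (algebraMap Γ(Y, U)
        (integralClosure Γ(Y, U) Γ(Spec (CommRingCat.of K), g ⁻¹ᵁ U))) := by
  have hη := mem_of_nonempty U hne
  obtain ⟨e, he⟩ := exists_ringEquiv_sections hg hU hη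
  let L := Γ(Spec (CommRingCat.of K), g ⁻¹ᵁ U)
  letI algL : Algebra Γ(Y, U) L := (g.app U).hom.toAlgebra
  haveI : Nonempty U := ⟨⟨_, hη⟩⟩
  haveI := functionField_isFractionRing_of_isAffineOpen Y U hU
  letI : Algebra Y.functionField K := φ.toAlgebra
  letI : Algebra Γ(Y, U) K := (φ.comp (algebraMap Γ(Y, U) Y.functionField)).toAlgebra
  haveI : IsScalarTower Γ(Y, U) Y.functionField K := IsScalarTower.of_algebraMap_eq fun _ => rfl
  haveI : FiniteDimensional Y.functionField K := hφ
  have hs := s.finiteType_appLE (isAffineOpen_top _) hU le_top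
  let σ : k →+* Γ(Y, U) :=
    (s.appLE ⊤ U le_top).hom.comp (Scheme.ΓSpecIso (CommRingCat.of k)).inv.hom
  letI : Algebra k Γ(Y, U) := σ.toAlgebra
  haveI : Algebra.FiniteType k Γ(Y, U) := hs.comp
    (RingHom.FiniteType.of_surjective _
      (ConcreteCategory.bijective_of_isIso (Scheme.ΓSpecIso (CommRingCat.of k)).inv).surjective)
  haveI := finite_integralClosure k Γ(Y, U) Y.functionField K
  let eA : L ≃ₐ[Γ(Y, U)] K := AlgEquiv.ofRingEquiv (f := e) fun a => he a
  refine ⟨Module.Finite.equiv eA.symm.mapIntegralClosure.toLinearEquiv, ?_, ?_⟩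
  · haveI : IsIntegrallyClosed (integralClosure Γ(Y, U) K) :=
      integralClosure.isIntegrallyClosedOfFiniteExtension Y.functionField
    exact IsIntegrallyClosed.of_equiv eA.symm.mapIntegralClosure.toRingEquiv
  · intro a b h
    have h' : eA (algebraMap Γ(Y, U) L a) = eA (algebraMap Γ(Y, U) L b) :=
      congrArg (fun z => eA (Subtype.val z)) h
    simp only [AlgEquiv.commutes] at h'
    exact IsFractionRing.injective Γ(Y, U) Y.functionField (φ.injective h')

variable [QuasiCompact g] [QuasiSeparated g]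

include hg s in
lemma isFinite_fromNormalization (hφ : φ.Finite) : IsFinite g.fromNormalization := by
  haveI : IsAffineHom g.fromNormalization := inferInstance
  refine ⟨fun U hU => ?_⟩
  letI := (g.app U).hom.toAlgebra
  have hfin : Module.Finite Γ(Y, U) (integralClosure Γ(Y, U) Γ(Spec (CommRingCat.of K), g ⁻¹ᵁ U)) := by
    rcases (U : Set Y).eq_empty_or_nonempty with h | h
    · have hb : g ⁻¹ᵁ U = ⊥ := by
        ext z
        simp [h]
      haveI : Subsingleton Γ(Spec (CommRingCat.of K), g ⁻¹ᵁ U) := by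
        rw [hb]; infer_instance
      haveI : Subsingleton (integralClosure Γ(Y, U) Γ(Spec (CommRingCat.of K), g ⁻¹ᵁ U)) :=
        Subtype.val_injective.subsingleton
      infer_instance
    · exact (exists_package hg s hφ hU h).1
  rw [g.fromNormalization_app hU]
  refine RingHom.Finite.comp (RingHom.Finite.of_surjective _ ?_) (RingHom.finite_algebraMap.mpr hfin)
  exact (ConcreteCategory.bijective_of_isIso (g.normalizationObjIso hU).inv).surjective

include hg s in
lemma exists_integrallyClosed_chart (hφ : φ.Finite) (x' : g.normalization) :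
    ∃ U : Y.Opens, IsAffineOpen U ∧ g.fromNormalization x' ∈ U ∧
      IsAffineOpen (g.fromNormalization ⁻¹ᵁ U) ∧
      IsIntegrallyClosed Γ(g.normalization, g.fromNormalization ⁻¹ᵁ U) ∧
      Function.Injective (g.fromNormalization.app U).hom := by
  obtain ⟨_, ⟨U, hU, rfl⟩, hxU, -⟩ :=
    Y.isBasis_affineOpens.exists_subset_of_mem_open (Set.mem_univ (g.fromNormalization x')) isOpen_univ
  letI := (g.app U).hom.toAlgebra
  obtain ⟨-, hic, hinj⟩ := exists_package hg s hφ hU ⟨_, hxU⟩
  refine ⟨U, hU, hxU, hU.preimage _, ?_, ?_⟩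
  · exact IsIntegrallyClosed.of_equiv (g.normalizationObjIso hU).symm.commRingCatIsoToRingEquiv
  · rw [g.fromNormalization_app hU]
    exact (ConcreteCategory.bijective_of_isIso (g.normalizationObjIso hU).inv).injective.comp hinj

include hg s in
lemma isNormalScheme_normalization (hφ : φ.Finite) : Pi1.IsNormalScheme g.normalization := by
  intro x'
  obtain ⟨U, hU, hxU, hV, hic, -⟩ := exists_integrallyClosed_chart hg s hφ x'
  refine ⟨inferInstance, ?_⟩
  haveI : Nonempty (g.fromNormalization ⁻¹ᵁ U : g.normalization.Opens) := ⟨⟨x', hxU⟩⟩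
  letI := TopCat.Presheaf.algebra_section_stalk g.normalization.presheaf
    (⟨x', hxU⟩ : (g.fromNormalization ⁻¹ᵁ U : g.normalization.Opens))
  haveI := hV.isLocalization_stalk ⟨x', hxU⟩
  exact isIntegrallyClosed_of_isLocalization _ (hV.primeIdealOf ⟨x', hxU⟩).asIdeal.primeCompl
    (Ideal.primeCompl_le_nonZeroDivisors _)

include hg s in
lemma dim_stalk_eq_one (hφ : φ.Finite)
    (hY : ∀ x : Y, IsClosed ({x} : Set Y) → ringKrullDim (Y.presheaf.stalk x) = 1)
    (x' : g.normalization) (hx' : IsClosed ({x'} : Set g.normalization)) :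
    ringKrullDim (g.normalization.presheaf.stalk x') = 1 := by
  obtain ⟨U, hU, hxU, hV, -, hinj⟩ := exists_integrallyClosed_chart hg s hφ x'
  haveI := isFinite_fromNormalization hg s hφ
  let x := g.fromNormalization x'
  have hx : IsClosed ({x} : Set Y) := by
    simpa [Set.image_singleton] using g.fromNormalization.isClosedMap _ hx'
  letI : Algebra Γ(Y, U) (Y.presheaf.stalk x) :=
    TopCat.Presheaf.algebra_section_stalk Y.presheaf (⟨x, hxU⟩ : U)
  letI : Algebra Γ(g.normalization, g.fromNormalization ⁻¹ᵁ U) (g.normalization.presheaf.stalk x') :=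
    TopCat.Presheaf.algebra_section_stalk g.normalization.presheaf
      (⟨x', hxU⟩ : (g.fromNormalization ⁻¹ᵁ U : g.normalization.Opens))
  haveI : IsLocalization.AtPrime (Y.presheaf.stalk x) (hU.primeIdealOf ⟨x, hxU⟩).asIdeal :=
    hU.isLocalization_stalk ⟨x, hxU⟩
  haveI : IsLocalization.AtPrime (g.normalization.presheaf.stalk x') (hV.primeIdealOf ⟨x', hxU⟩).asIdeal :=
    hV.isLocalization_stalk ⟨x', hxU⟩
  rw [IsLocalization.AtPrime.ringKrullDim_eq_height (hV.primeIdealOf ⟨x', hxU⟩).asIdeal]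
  have hp := hY x hx
  rw [IsLocalization.AtPrime.ringKrullDim_eq_height (hU.primeIdealOf ⟨x, hxU⟩).asIdeal] at hp
  have hp1 : (hU.primeIdealOf ⟨x, hxU⟩).asIdeal.height = 1 := by exact_mod_cast hp
  letI : Algebra Γ(Y, U) Γ(g.normalization, g.fromNormalization ⁻¹ᵁ U) :=
    (g.fromNormalization.app U).hom.toAlgebra
  haveI : Algebra.IsIntegral Γ(Y, U) Γ(g.normalization, g.fromNormalization ⁻¹ᵁ U) :=
    algebraMap_isIntegral_iff.mp (g.fromNormalization.isIntegral_app U hU)
  haveI : Nonempty (g.fromNormalization ⁻¹ᵁ U : g.normalization.Opens) := ⟨⟨x', hxU⟩⟩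
  set q := hV.primeIdealOf ⟨x', hxU⟩
  have hqp : PrimeSpectrum.comap (algebraMap Γ(Y, U) Γ(g.normalization, g.fromNormalization ⁻¹ᵁ U)) q =
      hU.primeIdealOf ⟨x, hxU⟩ := by
    have h := IsAffineOpen.comap_primeIdealOf_appLE (f := g.fromNormalization) U hU
      (g.fromNormalization ⁻¹ᵁ U) hV le_rfl hxU
    rw [← Scheme.Hom.app_eq_appLE] at h
    exact h
  haveI : Nonempty U := ⟨⟨x, hxU⟩⟩
  have hle : q.asIdeal.height ≤ (hU.primeIdealOf ⟨x, hxU⟩).asIdeal.height := by
    rw [PrimeSpectrum.height_eq_orderHeight, PrimeSpectrum.height_eq_orderHeight, ← hqp]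
    exact Order.height_le_height_apply_of_strictMono _
      (DimTheory.strictMono_comap Γ(Y, U) Γ(g.normalization, g.fromNormalization ⁻¹ᵁ U)) q
  have hne : (⊥ : Ideal Γ(g.normalization, g.fromNormalization ⁻¹ᵁ U)) < q.asIdeal := by
    refine bot_lt_iff_ne_bot.mpr fun h => ?_
    rw [← hqp, PrimeSpectrum.comap_asIdeal, h, ← RingHom.ker_eq_comap_bot,
      RingHom.algebraMap_toAlgebra, (RingHom.injective_iff_ker_eq_bot _).1 hinj, Ideal.height_bot] at hp1
    exact zero_ne_one hp1
  have hge : 1 ≤ q.asIdeal.height := by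
    rw [PrimeSpectrum.height_eq_orderHeight]
    exact le_trans le_add_self (Order.height_add_one_le (show
      (⟨⊥, Ideal.isPrime_bot⟩ : PrimeSpectrum Γ(g.normalization, g.fromNormalization ⁻¹ᵁ U)) < q from hne))
  exact_mod_cast le_antisymm (hle.trans_eq hp1) hge

end Groth.Agent.EGA2Curve
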