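import Groth.Agent.ProjCoord.Extra
import Groth.Agent.EGA2G.ProjMap
import Groth.Agent.DimTheory.Algebra

/-! The projective line over a field. -/

set_option autoImplicit false
set_option linter.style.haveILetI false

universe u

open CategoryTheory CategoryTheory.Limits AlgebraicGeometry HomogeneousLocalization CohB1
open Groth.Agent.ProjCoord

namespace Groth.Agent.EGA2Curve

variable {R : Type u} [CommRing R]

lemma exists_polynomial_equiv (i j : Fin (1 + 1)) (hij : j ≠ i) :
    ∃ e : Polynomial R ≃+* Away (polyGrading 1 R) (MvPolynomial.X i),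
      (∀ r, e (Polynomial.C r) = const i r) ∧ e Polynomial.X = ratio i j := by
  have hk : ∀ k, k = i ∨ k = j := by
    intro k; fin_cases i <;> fin_cases j <;> fin_cases k <;> simp_all
  let v : Fin (1 + 1) → Polynomial R := fun k => if k = i then 1 else Polynomial.X
  have hv : IsUnit (MvPolynomial.eval₂Hom Polynomial.C v (MvPolynomial.X i)) := by simp [v]
  let inv := awayEval (𝒜 := polyGrading 1 R) (MvPolynomial.eval₂Hom Polynomial.C v) hv
  let δ : Polynomial R →+* Away (polyGrading 1 R) (MvPolynomial.X i) :=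
    Polynomial.eval₂RingHom (const i) (ratio i j)
  have hc : inv.comp (const i) = Polynomial.C := awayEval_const _ _ _ _
  have hr : ∀ k, inv (ratio i k) = v k := fun k => by
    have := awayEval_ratio Polynomial.C v i k hv
    rwa [show v i = 1 by simp [v], mul_one] at this
  have h1 : δ.comp inv = RingHom.id _ := by
    apply away_hom_ext
    · rw [RingHom.comp_assoc, hc, RingHom.id_comp]
      ext r
      simp [δ]
    · intro k
      rw [RingHom.comp_apply, hr]
      rcases hk k with rfl | rfl
      · simp [v, δ, ratio_self]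
      · simp [v, δ, hij]
  have h2 : inv.comp δ = RingHom.id _ := by
    refine Polynomial.ringHom_ext (fun r => ?_) ?_
    · simp only [δ, RingHom.comp_apply, Polynomial.coe_eval₂RingHom, Polynomial.eval₂_C, RingHom.id_apply]
      exact RingHom.congr_fun hc r
    · simp [δ, hr, v, hij]
  exact ⟨RingEquiv.ofRingHom δ inv h1 h2, fun r => by simp [δ], by simp [δ]⟩

variable (k : Type u) [Field k]

lemma isIntegral_p1 : AlgebraicGeometry.IsIntegral (Proj (polyGrading 1 k)) := by
  rw [EGA2G.proj_isIntegral_iff _ fun f _ hf => hf.eq_zero]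
  refine ⟨⟨MvPolynomial.X 0, ?_, MvPolynomial.X_ne_zero 0⟩, fun f _ g _ h => mul_eq_zero.mp h⟩
  exact EGA2G.mem_irrelevant _ one_pos (X_mem (n := 1) (0 : Fin 2))

lemma dim_away (i : Fin (1 + 1)) :
    ringKrullDim (Away (polyGrading 1 k) (MvPolynomial.X i)) = 1 := by
  obtain ⟨j, hj⟩ := exists_ne i
  obtain ⟨e, -⟩ := exists_polynomial_equiv (R := k) i j hj
  rw [← ringKrullDim_eq_of_ringEquiv e, Polynomial.ringKrullDim_of_isNoetherianRing,
    ringKrullDim_eq_zero_of_field, zero_add]

lemma dim_stalk_closed (x : ↥(Proj (polyGrading 1 k))) (hx : IsClosed ({x} : Set ↥(Proj (polyGrading 1 k)))) :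
    ringKrullDim ((Proj (polyGrading 1 k)).presheaf.stalk x) = 1 := by
  obtain ⟨⟨i⟩, z, hz⟩ : ∃ p z, (cover 1 k).openCover.f p z = x :=
    ⟨_, (cover 1 k).openCover.covers x⟩
  set f := (cover 1 k).openCover.f ⟨i⟩
  have hzc : IsClosed ({z} : Set ↥((cover 1 k).openCover.X ⟨i⟩)) := by
    have : f ⁻¹' {x} = {z} := by
      ext w
      simp only [Set.mem_preimage, Set.mem_singleton_iff, ← hz]
      exact f.isOpenEmbedding.injective.eq_iff
    rw [← this]
    exact hx.preimage f.continuous
  obtain ⟨j, hj⟩ := exists_ne i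
  obtain ⟨e, hec, -⟩ := exists_polynomial_equiv (R := k) i j hj
  let A := Away (polyGrading 1 k) (MvPolynomial.X i)
  haveI : IsDomain A := MulEquiv.isDomain (Polynomial k) e.symm.toMulEquiv
  letI : Algebra k A := (const i).toAlgebra
  let eA : Polynomial k ≃ₐ[k] A := AlgEquiv.ofRingEquiv (f := e) fun c => by
    show e (algebraMap k (Polynomial k) c) = const i c
    rw [Polynomial.algebraMap_eq, hec]
  haveI : Algebra.FiniteType k A := Algebra.FiniteType.equiv inferInstance eA
  let p : PrimeSpectrum A := z
  haveI : p.asIdeal.IsMaximal := (PrimeSpectrum.isClosed_singleton_iff_isMaximal p).mp hzc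
  have h1 : ringKrullDim ((Spec.structureSheaf A).presheaf.stalk p) = 1 := by
    haveI : IsLocalization.AtPrime ((Spec.structureSheaf A).presheaf.stalk p) p.asIdeal :=
      StructureSheaf.IsLocalization.to_stalk A p
    rw [IsLocalization.AtPrime.ringKrullDim_eq_height p.asIdeal, DimTheory.height_maximal k A,
      dim_away]
  rw [← hz, ringKrullDim_eq_of_ringEquiv (asIso (f.stalkMap z)).commRingCatIsoToRingEquiv]
  exact h1

end Groth.Agent.EGA2Curve
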