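import Groth.Agent.EGA2Curve.Extend
import Mathlib.AlgebraicGeometry.ValuativeCriterion
import Mathlib.RingTheory.Valuation.ValuationSubring

/-! Points of a normal complete curve and valuation rings of its function field. -/

set_option autoImplicit false
set_option linter.style.haveILetI false

universe u

open CategoryTheory CategoryTheory.Limits AlgebraicGeometry Opposite

attribute [local instance] Curv2.stalkAlgebra

namespace Groth.Agent.EGA2Curve

variable {X : Scheme.{u}} [IsIntegral X]

theorem algebraMap_stalk_eq (x : X) :
    algebraMap (X.presheaf.stalk x) X.functionField =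
      (X.presheaf.stalkSpecializes ((genericPoint_spec X).specializes trivial)).hom := rfl

/-- The valuation subring of the function field at a point of a normal curve. -/
theorem exists_valuationSubring [IsLocallyNoetherian X] [CompactSpace X]
    (hc : ∀ x : X, IsClosed ({x} : Set X) → ringKrullDim (X.presheaf.stalk x) = 1)
    (hn : Pi1.IsNormalScheme X) (x : X) :
    ∃ R : ValuationSubring X.functionField,
      (R : Set X.functionField) = Set.range (algebraMap (X.presheaf.stalk x) X.functionField) ∧
      (R = ⊤ → x = genericPoint X) := by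
  haveI := (hn x).1
  haveI := (hn x).2
  haveI := valuationRing_of_normal (ringKrullDim_stalk_le_one hc x)
  let R : ValuationSubring X.functionField :=
    { (algebraMap (X.presheaf.stalk x) X.functionField).range with
      mem_or_inv_mem' := fun z => by
        obtain ⟨a, b, hb, rfl⟩ := IsFractionRing.div_surjective (X.presheaf.stalk x) z
        rcases ValuationRing.cond a b with ⟨c, hc | hc⟩
        · right
          rcases eq_or_ne a 0 with rfl | ha
          · exact ⟨0, by simp⟩
          refine ⟨c, ?_⟩
          rw [inv_div, ← hc, map_mul, mul_div_cancel_left₀]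
          exact (map_ne_zero_iff _ (IsFractionRing.injective (X.presheaf.stalk x) X.functionField)).2 ha
        · left
          refine ⟨c, ?_⟩
          rw [← hc, map_mul, mul_div_cancel_left₀]
          exact (map_ne_zero_iff _ (IsFractionRing.injective (X.presheaf.stalk x) X.functionField)).2
            (nonZeroDivisors.ne_zero hb) }
  refine ⟨R, rfl, fun hR => ?_⟩
  have hfield : IsField (X.presheaf.stalk x) := by
    refine ⟨⟨0, 1, zero_ne_one⟩, mul_comm, fun {a} ha => ?_⟩
    have : (algebraMap (X.presheaf.stalk x) X.functionField a)⁻¹ ∈ R := hR ▸ ValuationSubring.mem_top _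
    obtain ⟨b, hb⟩ := this
    refine ⟨b, IsFractionRing.injective (X.presheaf.stalk x) X.functionField ?_⟩
    rw [map_mul, hb, map_one, mul_inv_cancel₀]
    exact (map_ne_zero_iff _ (IsFractionRing.injective (X.presheaf.stalk x) X.functionField)).2 ha
  obtain ⟨_, ⟨U, hU, rfl⟩, hxU, -⟩ :=
    X.isBasis_affineOpens.exists_subset_of_mem_open (Set.mem_univ x) isOpen_univ
  haveI : Nonempty U := ⟨⟨x, hxU⟩⟩
  have hη : genericPoint X ∈ U := ((genericPoint_spec X).specializes trivial).mem_open U.2 hxU
  have hp : (hU.primeIdealOf ⟨x, hxU⟩).asIdeal.height = 0 := by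
    letI := hfield.toField
    have h := DivPts.ringKrullDim_stalk_eq_height ⟨U, hU⟩ hxU
    rw [ringKrullDim_eq_zero_of_isField hfield] at h
    exact_mod_cast h.symm
  rw [Ideal.height_eq_zero_iff, IsDomain.minimalPrimes_eq_singleton_bot, Set.mem_singleton_iff] at hp
  have hxη : x ⤳ genericPoint X := (AssPts.specializes_iff hU (genericPoint X) hη hxU).2
    (hp ▸ bot_le)
  exact ((genericPoint_spec X).specializes trivial).antisymm hxη |>.eq.symm

/-- Points with the same local ring in the function field coincide (separated case). -/
theorem eq_of_range_eq {S : Scheme.{u}} (p : X ⟶ S) [IsSeparated p] (x x' : X)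
    (h : Set.range (algebraMap (X.presheaf.stalk x) X.functionField) =
      Set.range (algebraMap (X.presheaf.stalk x') X.functionField))
    (hp : ∀ (e : X.presheaf.stalk x' ⟶ X.presheaf.stalk x),
      Function.Bijective e.hom → (algebraMap (X.presheaf.stalk x) X.functionField).comp e.hom =
        algebraMap (X.presheaf.stalk x') X.functionField →
      Spec.map e ≫ X.fromSpecStalk x' ≫ p = X.fromSpecStalk x ≫ p) :
    x = x' := by
  have hr : ∀ a, ∃ b, algebraMap (X.presheaf.stalk x) X.functionField b =
      algebraMap (X.presheaf.stalk x') X.functionField a := fun a => by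
    have h0 : algebraMap (X.presheaf.stalk x') X.functionField a ∈
        Set.range (algebraMap (X.presheaf.stalk x) X.functionField) := by
      rw [h]; exact Set.mem_range_self a
    exact h0
  choose e he using hr
  have inj := IsFractionRing.injective (X.presheaf.stalk x) X.functionField
  let e' : X.presheaf.stalk x' →+* X.presheaf.stalk x :=
    { toFun := e
      map_one' := inj (by rw [he, map_one, map_one])
      map_mul' := fun a b => inj (by rw [he, map_mul, map_mul, he, he])
      map_zero' := inj (by rw [he, map_zero, map_zero])
      map_add' := fun a b => inj (by rw [he, map_add, map_add, he, he]) }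
  have hbij : Function.Bijective e' := by
    refine ⟨fun a b hab => IsFractionRing.injective (X.presheaf.stalk x') X.functionField ?_,
      fun b => ?_⟩
    · rw [← he a, ← he b]; exact congrArg _ hab
    · obtain ⟨a, ha⟩ : algebraMap (X.presheaf.stalk x) X.functionField b ∈
          Set.range (algebraMap (X.presheaf.stalk x') X.functionField) := h ▸ Set.mem_range_self b
      exact ⟨a, inj ((he a).trans ha)⟩
  have hcomp : (algebraMap (X.presheaf.stalk x) X.functionField).comp e' =
      algebraMap (X.presheaf.stalk x') X.functionField := RingHom.ext he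
  let g₁ := X.fromSpecStalk x
  let g₂ := Spec.map (CommRingCat.ofHom e') ≫ X.fromSpecStalk x'
  have heq : g₁ = g₂ := by
    let i : Spec (X.presheaf.stalk (genericPoint X)) ⟶ Spec (X.presheaf.stalk x) :=
      Spec.map (X.presheaf.stalkSpecializes ((genericPoint_spec X).specializes trivial))
    haveI : IsDominant i := ⟨by
      refine PrimeSpectrum.denseRange_comap_iff_ker_le_nilRadical
        (X.presheaf.stalkSpecializes ((genericPoint_spec X).specializes trivial)).hom |>.2 ?_
      rw [← algebraMap_stalk_eq, (RingHom.injective_iff_ker_eq_bot _).1 inj]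
      exact bot_le⟩
    haveI : IsIntegral (Spec (X.presheaf.stalk x)) := inferInstance
    refine ext_of_isDominant_of_isSeparated p ?_ i ?_
    · simp only [g₁, g₂, Category.assoc]
      exact (hp _ hbij hcomp).symm
    · simp only [i, g₁, g₂]
      rw [Scheme.SpecMap_stalkSpecializes_fromSpecStalk, ← Spec.map_comp_assoc]
      have : CommRingCat.ofHom e' ≫ X.presheaf.stalkSpecializes
          ((genericPoint_spec X).specializes trivial) =
          X.presheaf.stalkSpecializes ((genericPoint_spec X).specializes trivial) :=
        CommRingCat.hom_ext hcomp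
      rw [this, Scheme.SpecMap_stalkSpecializes_fromSpecStalk]
  have h1 := congr($heq (IsLocalRing.closedPoint _))
  haveI : IsLocalHom (CommRingCat.ofHom e').hom :=
    ⟨fun a ha => by
      have := ha.map (RingEquiv.ofBijective e' hbij).symm
      simpa using (RingEquiv.ofBijective e' hbij).symm_apply_apply a ▸ this⟩
  simp only [g₁, g₂, Scheme.Hom.comp_apply, Spec_closedPoint, Scheme.fromSpecStalk_closedPoint] at h1
  exact h1.trans Scheme.fromSpecStalk_closedPoint

/-- Local rings of a normal complete curve are the valuation rings of the function field. -/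
theorem localRings_eq_valuationRings {k : Type u} [Field k]
    [X.Over (Spec (CommRingCat.of k))] [IsProper (X ↘ Spec (CommRingCat.of k))]
    (hc : ∀ x : X, IsClosed ({x} : Set X) → ringKrullDim (X.presheaf.stalk x) = 1)
    (hn : Pi1.IsNormalScheme X) :
    (∀ x : X, x ≠ genericPoint X → ∃ R : ValuationSubring X.functionField, R ≠ ⊤ ∧
        (R : Set X.functionField) = Set.range (algebraMap (X.presheaf.stalk x) X.functionField)) ∧
      ∀ R : ValuationSubring X.functionField, R ≠ ⊤ →
        (∀ c : k, algebraMap k X.functionField c ∈ R) →
        ∃! x : X, (R : Set X.functionField) =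
          Set.range (algebraMap (X.presheaf.stalk x) X.functionField) := by
  set p := X ↘ Spec (CommRingCat.of k)
  haveI : IsLocallyNoetherian X := LocallyOfFiniteType.isLocallyNoetherian p
  haveI : CompactSpace X := QuasiCompact.compactSpace_of_compactSpace p
  refine ⟨fun x hx => ?_, fun R hR hk => ?_⟩
  · obtain ⟨R, hR, hR'⟩ := exists_valuationSubring hc hn x
    exact ⟨R, fun h => hx (hR' h), hR⟩
  let ck : k →+* R :=
    { toFun := fun c => ⟨algebraMap k X.functionField c, hk c⟩
      map_one' := Subtype.ext (map_one _)
      map_mul' := fun a b => Subtype.ext (map_mul _ a b)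
      map_zero' := Subtype.ext (map_zero _)
      map_add' := fun a b => Subtype.ext (map_add _ a b) }
  let sub : CommRingCat.of R ⟶ X.presheaf.stalk (genericPoint X) :=
    CommRingCat.ofHom R.subtype
  have sq : CommSq (X.fromSpecStalk (genericPoint X)) (Spec.map sub) p
      (Spec.map (CommRingCat.ofHom ck)) := ⟨by
    rw [fromSpecStalk_over, ← Spec.map_comp]
    rfl⟩
  have hex : ValuativeCriterion.Existence p := by
    have h : (ValuativeCriterion.Existence ⊓ @QuasiCompact : MorphismProperty Scheme) p := by
      rw [← UniversallyClosed.eq_valuativeCriterion]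
      infer_instance
    exact h.1
  obtain ⟨⟨⟨l, hl1, -⟩⟩⟩ := hex
    { R := R, K := X.functionField, i₁ := X.fromSpecStalk (genericPoint X),
      i₂ := Spec.map (CommRingCat.ofHom ck), commSq := sq }
  let x := l (IsLocalRing.closedPoint R)
  let c : X.presheaf.stalk x ⟶ CommRingCat.of R := Scheme.stalkClosedPointTo l
  have hl : Spec.map c ≫ X.fromSpecStalk x = l := Scheme.Spec_stalkClosedPointTo_fromSpecStalk l
  have hcs : c ≫ sub = X.presheaf.stalkSpecializes ((genericPoint_spec X).specializes trivial) := by
    refine Spec.map_injective ?_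
    rw [← cancel_mono (X.fromSpecStalk x), Spec.map_comp, Category.assoc, hl,
      Scheme.SpecMap_stalkSpecializes_fromSpecStalk]
    exact hl1
  have hmem : ∀ a, algebraMap (X.presheaf.stalk x) X.functionField a = R.subtype (c.hom a) :=
    fun a => by
      rw [algebraMap_stalk_eq, ← hcs]
      rfl
  obtain ⟨O, hO, -⟩ := exists_valuationSubring hc hn x
  have hsub : (R : Set X.functionField) =
      Set.range (algebraMap (X.presheaf.stalk x) X.functionField) := by
    refine Set.Subset.antisymm (fun r hr => ?_) ?_
    · by_contra hrO
      have hr' : r ∉ O := fun h => hrO (hO ▸ h)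
      have hinv : r⁻¹ ∈ O := (O.mem_or_inv_mem r).resolve_left hr'
      obtain ⟨a, ha⟩ : r⁻¹ ∈ Set.range (algebraMap (X.presheaf.stalk x) X.functionField) := hO ▸ hinv
      have hr0 : r ≠ 0 := fun h => hr' (h ▸ O.zero_mem)
      have hu : IsUnit (c.hom a) := IsUnit.of_mul_eq_one (⟨r, hr⟩ : R) (Subtype.ext (by
        show R.subtype (c.hom a) * r = 1
        rw [← hmem, ha, inv_mul_cancel₀ hr0]))
      haveI : IsLocalHom c.hom := inferInstanceAs (IsLocalHom (Scheme.stalkClosedPointTo l).hom)
      obtain ⟨b, hb⟩ := ((isUnit_map_iff c.hom a).1 hu).exists_right_inv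
      refine hrO ⟨b, ?_⟩
      have hab : algebraMap (X.presheaf.stalk x) X.functionField a *
          algebraMap (X.presheaf.stalk x) X.functionField b = 1 := by rw [← map_mul, hb, map_one]
      rw [ha] at hab
      exact (inv_mul_eq_one₀ hr0).1 hab |>.symm
    · rintro _ ⟨a, rfl⟩
      rw [hmem]
      exact (c.hom a).2
  refine ⟨x, hsub, fun x' hx' => ?_⟩
  refine (eq_of_range_eq p x x' (hsub.symm.trans hx') fun e _ he => ?_).symm
  rw [fromSpecStalk_over, fromSpecStalk_over, ← Spec.map_comp]
  congr 1
  refine CommRingCat.hom_ext (RingHom.ext fun c0 => IsFractionRing.injective (X.presheaf.stalk x)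
    X.functionField ?_)
  have key : ∀ z : X, algebraMap (X.presheaf.stalk z) X.functionField (Curv2.stalkMap k X z c0) =
      Curv2.stalkMap k X (genericPoint X) c0 := fun z =>
    TopCat.Presheaf.germ_stalkSpecializes_apply X.presheaf (U := ⊤) (y := z) trivial
      ((genericPoint_spec X).specializes trivial) _
  exact ((RingHom.congr_fun he _).trans (key x')).trans (key x).symm

end Groth.Agent.EGA2Curve
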