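import Mathlib.FieldTheory.IntermediateField.Adjoin.Basic
import Mathlib.RingTheory.AlgebraicIndependent.TranscendenceBasis

/-! Function fields in one variable. -/

set_option autoImplicit false
set_option linter.style.haveILetI false

universe u

open scoped IntermediateField

namespace Groth.Agent.EGA2Curve

theorem exists_transcendental_finite (k K : Type u) [Field k] [Field K] [Algebra k K]
    (hfg : (⊤ : IntermediateField k K).FG) (htr : Algebra.trdeg k K = 1) :
    ∃ t : K, Transcendental k t ∧ Module.Finite k⟮t⟯ K := by
  obtain ⟨s, hs⟩ := exists_isTranscendenceBasis k K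
  have hcard := hs.cardinalMk_eq_trdeg
  rw [htr, Cardinal.mk_set_eq_one_iff] at hcard
  obtain ⟨t, rfl⟩ := hcard
  have ht : Transcendental k t := by
    have := hs.1.transcendental ⟨t, rfl⟩
    exact this
  have halg := hs.isAlgebraic_field
  rw [Subtype.range_coe] at halg
  refine ⟨t, ht, ?_⟩
  obtain ⟨S, hS, hSfin⟩ := IntermediateField.fg_def.mp hfg
  haveI : Algebra.IsIntegral k⟮t⟯ K := halg.isIntegral
  haveI : Finite S := hS
  have htop : IntermediateField.adjoin k⟮t⟯ S = ⊤ := by
    apply IntermediateField.restrictScalars_injective k
    rw [IntermediateField.restrictScalars_top, eq_top_iff, ← hSfin]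
    exact IntermediateField.adjoin_le_iff.mpr (IntermediateField.subset_adjoin k⟮t⟯ S)
  haveI := IntermediateField.finiteDimensional_adjoin (K := k⟮t⟯) (L := K) (S := S)
    fun x _ => Algebra.IsIntegral.isIntegral x
  rw [htop] at this
  exact Module.Finite.equiv IntermediateField.topEquiv.toLinearEquiv

end Groth.Agent.EGA2Curve
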